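import Mathlib
import Cfsg.Agent.BG.Defs
import Cfsg.Agent.Core.Coprime
import Cfsg.Agent.Core.Cores
import Cfsg.Agent.BG.Quo

set_option autoImplicit false

namespace Cfsg.Agent.BG

open Cfsg
open scoped Pointwise

variable {G : Type*} [Group G] [Finite G]

theorem T1_14_coprime {p : ℕ} (hp : p.Prime) {T N : Subgroup G} (hT : IsPGroup p T)
    (hcop : (Nat.card N).Coprime p) :
    (Nat.card (T.subgroupOf 𝐍(N))).Coprime (Nat.card (N.subgroupOf 𝐍(N))) := by
  haveI : Fact p.Prime := ⟨hp⟩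
  rw [Core.card_subgroupOf_of_le Subgroup.le_normalizer]
  exact (Core.coprime_of_isPGroup (hT.comap_subtype (K := 𝐍(N))) hcop).symm

theorem coprime_norm_quo_pgroup {p : ℕ} (hp : p.Prime) {T N : Subgroup G} (hT : IsPGroup p T)
    (hTN : T ≤ 𝐍(N)) (hcop : (Nat.card N).Coprime p) : 𝐍(quo N T) = quo N 𝐍(T) := by
  haveI : Fact p.Prime := ⟨hp⟩
  have h := Core.normalizer_map_mk' (T.subgroupOf 𝐍(N)) (N.subgroupOf 𝐍(N))
    (T1_14_coprime hp hT hcop) (Or.inl (Core.solvable_of_isPGroup (hT.comap_subtype (K := 𝐍(N)))))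
  rw [← Subgroup.subgroupOf_normalizer_eq hTN] at h
  exact h

theorem coprime_cent_quo_pgroup {p : ℕ} (hp : p.Prime) {T N : Subgroup G} (hT : IsPGroup p T)
    (hTN : T ≤ 𝐍(N)) (hcop : (Nat.card N).Coprime p) : 𝐂(quo N T) = quo N 𝐂(T) := by
  haveI : Fact p.Prime := ⟨hp⟩
  have h := Core.centralizer_map_mk' (T.subgroupOf 𝐍(N)) (N.subgroupOf 𝐍(N))
    (T1_14_coprime hp hT hcop) (Or.inl (Core.solvable_of_isPGroup (hT.comap_subtype (K := 𝐍(N)))))
  have e : Subgroup.centralizer ((T.subgroupOf 𝐍(N) : Subgroup 𝐍(N)) : Set 𝐍(N))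
      = (𝐂(T)).subgroupOf 𝐍(N) := by
    ext x
    rw [Subgroup.mem_subgroupOf, Subgroup.mem_centralizer_iff, Subgroup.mem_centralizer_iff]
    constructor
    · intro h t ht
      exact congrArg Subtype.val (h ⟨t, hTN ht⟩ ht)
    · intro h t ht
      exact Subtype.ext (h t ht)
  rw [e] at h
  exact h

end Cfsg.Agent.BG
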