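import Cfsg.Agent.PGrp.Rank2

/-!
# BG 4.8, 4.10
-/

set_option autoImplicit false

namespace Cfsg.Agent.BG

open Cfsg
open scoped Pointwise

variable {G : Type*} [Group G] [Finite G]

theorem rank2_exponent_p_p3group {p : ℕ} (hp : p.Prime) (hp2 : p ≠ 2) {R : Subgroup G} (hR : IsPGroup p R)
    (hr : PRankLE p 2 R) (he : ∀ x ∈ R, x ^ p = 1) : Nat.card R ≤ p ^ 3 := by
  have := Fact.mk hp
  have _ := hp2
  have _ := hR
  exact PGrp.card_le_cube_of_pRankLE_two hr he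

theorem exponent_Ohm1_rank2 {p : ℕ} (hp : p.Prime) (hp3 : 3 < p) {R : Subgroup G} (hR : IsPGroup p R)
    (hr : PRankLE p 2 R) : ∀ x ∈ omegaOne p R, x ^ p = 1 := by
  have := Fact.mk hp
  exact fun _ hx => PGrp.pow_eq_one_of_mem_omegaOne_of_pRankLE_two hp3 hR hr hx

theorem Ohm1_metacyclic_p2Elem {p : ℕ} (hp : p.Prime) (hp2 : p ≠ 2) {R : Subgroup G} (hR : IsPGroup p R)
    (hm : IsMetacyclic R) (hnc : ¬ IsCyclic R) : IsPnElem p 2 (omegaOne p R) R := by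
  have := Fact.mk hp
  exact ⟨PGrp.omegaOne_le, PGrp.omegaOne_of_isMetacyclic' hp2 hR hm hnc⟩

end Cfsg.Agent.BG
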